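import Cfsg.Agent.L0.PcCert
import Cfsg.Agent.L0.Dw
import Cfsg.Agent.H3.Mu.O7.Tab

/-! Generated certificate: the `2`-part of a Schur multiplier. -/

set_option autoImplicit false
set_option maxRecDepth 100000

open Cfsg.Agent.L0

namespace Cfsg.Agent.H3.O7.P2

noncomputable def W : List (List ℕ) := [
  dw (nat_lit 5) (nat_lit 31) (nat_lit 8) (nat_lit 0x13e0470826),
  dw (nat_lit 5) (nat_lit 31) (nat_lit 9) (nat_lit 0x771c4f98446),
  dw (nat_lit 5) (nat_lit 31) (nat_lit 8) (nat_lit 0x1c67080c1),
  dw (nat_lit 5) (nat_lit 31) (nat_lit 8) (nat_lit 0x8b50490526),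
  dw (nat_lit 5) (nat_lit 31) (nat_lit 9) (nat_lit 0x957280025),
  dw (nat_lit 5) (nat_lit 31) (nat_lit 9) (nat_lit 0x8048058044),
  dw (nat_lit 5) (nat_lit 31) (nat_lit 7) (nat_lit 0x4e8128401),
  dw (nat_lit 5) (nat_lit 31) (nat_lit 5) (nat_lit 0xd785cc),
  dw (nat_lit 5) (nat_lit 31) (nat_lit 9) (nat_lit 0x10366832c23),
  dw (nat_lit 5) (nat_lit 31) (nat_lit 8) (nat_lit 0x551ed3bd22),
  dw (nat_lit 5) (nat_lit 31) (nat_lit 8) (nat_lit 0x224e6985e2),
  dw (nat_lit 5) (nat_lit 31) (nat_lit 8) (nat_lit 0x641cc20ea3),
  dw (nat_lit 5) (nat_lit 31) (nat_lit 7) (nat_lit 0x3a015c8af)]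

noncomputable def P : PcP := ⟨nat_lit 2, nat_lit 1, nat_lit 8, nat_lit 0x804020100804020100008040201008040200010080403018080004020100b0400026100d860002b140800051200e54000, nat_lit 9, nat_lit 511, nat_lit 12, nat_lit 4095, nat_lit 4, nat_lit 69, nat_lit 6, nat_lit 7⟩

noncomputable def fu : Fus := ⟨[nat_lit 64, nat_lit 32, nat_lit 16, nat_lit 8, nat_lit 4, nat_lit 2, nat_lit 1, nat_lit 256, nat_lit 32, nat_lit 8, nat_lit 4, nat_lit 2, nat_lit 1, nat_lit 256, nat_lit 64, nat_lit 32, nat_lit 16, nat_lit 8, nat_lit 4, nat_lit 2, nat_lit 1, nat_lit 256, nat_lit 8, nat_lit 2],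
  [nat_lit 91, nat_lit 483, nat_lit 9, nat_lit 26, nat_lit 6, nat_lit 2, nat_lit 1, nat_lit 299, nat_lit 11, nat_lit 43, nat_lit 4, nat_lit 2, nat_lit 1, nat_lit 7, nat_lit 17, nat_lit 263, nat_lit 80, nat_lit 2, nat_lit 298, nat_lit 11, nat_lit 1, nat_lit 256, nat_lit 32, nat_lit 4],
  [nat_lit 9, nat_lit 9, nat_lit 9, nat_lit 9, nat_lit 9, nat_lit 9, nat_lit 9, nat_lit 10, nat_lit 10, nat_lit 10, nat_lit 10, nat_lit 10, nat_lit 10, nat_lit 11, nat_lit 11, nat_lit 11, nat_lit 11, nat_lit 11, nat_lit 11, nat_lit 11, nat_lit 11, nat_lit 12, nat_lit 12, nat_lit 12]⟩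

noncomputable def lam : List ℕ := [nat_lit 0x3000000000000000003000000000003000000000000003000000000000000000000000003003003000000000000000000003003000000000000000000003000000000000000000000000000000000000000000000000000000000000000000000000000003000,
  nat_lit 0x3000000000000000003000000003003000000000000003000000000000000003003000003003003003000000000000000000003003000000000000003003000003000000000000000003000003003003000000000000003000000000003000000000000003000,
  nat_lit 0x3000000000000000003000000000000000003000000003000000003000000000000000000000000003000000000000000000000000000000000003000000000000000000003000000000000000000000000000000000003000,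
  nat_lit 0x1000,
  nat_lit 0x2000000000000000002000000002002000000000000002000000000000000002002000002002002002000000000000000000002002000000000000002002000002000000001000000002000002002002000000000000002000003000002000000000001001000,
  nat_lit 0x2000000000000000002000000002002000000000000002000000000000000002002000002002002002000000000000000000002002000000000000002002000002000000000000000002000002002002000000000000002000000000002000003000001001000,
  nat_lit 0x3000000000000000003000000000000000000000000003000000000000000000000000000000000000000000000000000000000000000000000000000003000000000000000000000000000000003000000000000000000000000000000000000000000003000,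
  nat_lit 0x1000000000000000000000000000000000000000000000000000000000000000000,
  nat_lit 0x2000000000000000002000000002002000000000000002000000000000000002002000002002002002000000000000000000002002000000000000002002000002000000003000000002000002002002000000000000002000001000002000001000003003000]

noncomputable def bs : List ℕ := [nat_lit 0x1000000000000000000000002000]

noncomputable def mo : List ℕ := [nat_lit 0x2000000000000c]

noncomputable def cv0 : List ℕ := [nat_lit 0x2000000000,
  nat_lit 0x2000000000000000000,
  nat_lit 0x2000000000000000000000000000000000000000000000,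
  nat_lit 0x2000000000000000000000000000000000000000000000000000000000000000,
  nat_lit 0x2000000000000000000000000000000000000000000000000000000000000000000000000000000000000,
  nat_lit 0x2000000000000000000000000000000000000000000000000000000000000000000000000000000000000000000000000000000000000,
  nat_lit 0x2000000000000000000000000000000000000000000000000000000000000000000000000000000000000000,
  nat_lit 0x2000000000000000000000000000000000000000000000000000000000000000000000000000000000000000000000000000000000000000,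
  nat_lit 0x2000000000000000000000000000000000000,
  nat_lit 0x2000000000000000000000000000000000000000000000000000,
  nat_lit 0x2000000000000000000000000000000000000000000000000000000000000000000000000000000000000000000,
  nat_lit 0x2000000000000000000000000000000000000000000000000000000000000000000000000000000000000000000000000000000000000000000,
  nat_lit 0x2000000000000000000000000000000000000000000000000000000,
  nat_lit 0x2000000000000000000000000000000000000000000000000000000000000000000000000,
  nat_lit 0x2000000000000000000000000000000000000000000000000000000000000000000000000000000000000000000000,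
  nat_lit 0x2000000000000000000000000000000000000000000000000000000000000000000000000000000000000000000000000000000000000000000000,
  nat_lit 0x2000000000000000000000000000000000000000000000000000000000,
  nat_lit 0x2000000000000000000000000000000000000000000000000000000000000000000000000000,
  nat_lit 0x2000000000000000000000000000000000000000000000000000000000000000000000000000000000000000000000000,
  nat_lit 0x2000000000000000000000000000000000000000000000000000000000000000000000000000000000000000000000000000000000000000000000000,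
  nat_lit 0x2000000000000000000000000000000000000000000000000000000000000000000000000000000,
  nat_lit 0x2000000000000000000000000000000000000000000000000000000000000000000000000000000000000000000000000000,
  nat_lit 0x2000000000000000000000000000000000000000000000000000000000000000000000000000000000000000000000000000000000000000000000000000,
  nat_lit 0x2000000000000000000000000000000000000000000000000000000000000000000000000000000000000000000000000000000,
  nat_lit 0x2000000000000000000000000000000000000000000000000000000000000000000000000000000000000000000000000000000000000000000000000000000,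
  nat_lit 0x2000000000000000000000000000000000000000000000000000000000000000000000000000000000000000000000000000000000000000000000000000000000,
  nat_lit 0x1000000001000000000000002000,
  nat_lit 0x3003000000000000000000000000002000000000000000000000000000000,
  nat_lit 0x1000000000000001000000000000002000000000000000000000000000000,
  nat_lit 0x3000003000000000000000000000000000000002000000000000000000000,
  nat_lit 0x3003000000000000000000000000000000000002000000000000000000000000000000000000000000000000000000000000000000,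
  nat_lit 0x3003000000000000000000000000000000002000000000000000000000000000000000000000000000000000000000000000000000,
  nat_lit 0x1000000000000001000000000000000000002000000000000000000000000000000000000000000000000000000000000000000000,
  nat_lit 0x3000000000000000000000000000000000000000000000000000000000000000000000000000000000000000000000,
  nat_lit 0x3000000000000000000000000000000000000000000000000000000000000000000000000000000000000000000000000000000000000000000000,
  nat_lit 0x3000000000000000000000000000000000000000000000000000,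
  nat_lit 0x1000000000000000000000000000000000000000000000000000000000000000000000000000000000000,
  nat_lit 0x3000000000000000000000000000000000000000000000000000000000000000000000000000000,
  nat_lit 0x3000000000000000000000000000000000000000000000000000000000000000000000000000000000000000000000000000,
  nat_lit 0x3000000000000000000000000000000000000000000000000000000000000000000000000000000000000000000000000000000000000000000000000000]

noncomputable def cc0 : List Con := [
  ⟨nat_lit 0, nat_lit 0, nat_lit 2, [nat_lit 64], [], nthN cv0 (nat_lit 0)⟩,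
  ⟨nat_lit 0, nat_lit 0, nat_lit 3, [nat_lit 32], [], nthN cv0 (nat_lit 1)⟩,
  ⟨nat_lit 0, nat_lit 0, nat_lit 5, [nat_lit 8], [], nthN cv0 (nat_lit 2)⟩,
  ⟨nat_lit 0, nat_lit 0, nat_lit 6, [nat_lit 4], [], nthN cv0 (nat_lit 3)⟩,
  ⟨nat_lit 0, nat_lit 0, nat_lit 7, [nat_lit 2], [], nthN cv0 (nat_lit 4)⟩,
  ⟨nat_lit 0, nat_lit 0, nat_lit 8, [nat_lit 1], [], nthN cv0 (nat_lit 5)⟩,
  ⟨nat_lit 0, nat_lit 1, nat_lit 7, [nat_lit 2], [], nthN cv0 (nat_lit 6)⟩,
  ⟨nat_lit 0, nat_lit 1, nat_lit 8, [nat_lit 1], [], nthN cv0 (nat_lit 7)⟩,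
  ⟨nat_lit 0, nat_lit 2, nat_lit 4, [nat_lit 16], [], nthN cv0 (nat_lit 8)⟩,
  ⟨nat_lit 0, nat_lit 2, nat_lit 5, [nat_lit 8], [], nthN cv0 (nat_lit 9)⟩,
  ⟨nat_lit 0, nat_lit 2, nat_lit 7, [nat_lit 2], [], nthN cv0 (nat_lit 10)⟩,
  ⟨nat_lit 0, nat_lit 2, nat_lit 8, [nat_lit 1], [], nthN cv0 (nat_lit 11)⟩,
  ⟨nat_lit 0, nat_lit 3, nat_lit 5, [nat_lit 8], [], nthN cv0 (nat_lit 12)⟩,
  ⟨nat_lit 0, nat_lit 3, nat_lit 6, [nat_lit 4], [], nthN cv0 (nat_lit 13)⟩,
  ⟨nat_lit 0, nat_lit 3, nat_lit 7, [nat_lit 2], [], nthN cv0 (nat_lit 14)⟩,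
  ⟨nat_lit 0, nat_lit 3, nat_lit 8, [nat_lit 1], [], nthN cv0 (nat_lit 15)⟩,
  ⟨nat_lit 0, nat_lit 4, nat_lit 5, [nat_lit 8], [], nthN cv0 (nat_lit 16)⟩,
  ⟨nat_lit 0, nat_lit 4, nat_lit 6, [nat_lit 4], [], nthN cv0 (nat_lit 17)⟩,
  ⟨nat_lit 0, nat_lit 4, nat_lit 7, [nat_lit 2], [], nthN cv0 (nat_lit 18)⟩,
  ⟨nat_lit 0, nat_lit 4, nat_lit 8, [nat_lit 1], [], nthN cv0 (nat_lit 19)⟩,
  ⟨nat_lit 0, nat_lit 5, nat_lit 6, [nat_lit 4], [], nthN cv0 (nat_lit 20)⟩,
  ⟨nat_lit 0, nat_lit 5, nat_lit 7, [nat_lit 2], [], nthN cv0 (nat_lit 21)⟩,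
  ⟨nat_lit 0, nat_lit 5, nat_lit 8, [nat_lit 1], [], nthN cv0 (nat_lit 22)⟩,
  ⟨nat_lit 0, nat_lit 6, nat_lit 7, [nat_lit 2], [], nthN cv0 (nat_lit 23)⟩,
  ⟨nat_lit 0, nat_lit 6, nat_lit 8, [nat_lit 1], [], nthN cv0 (nat_lit 24)⟩,
  ⟨nat_lit 0, nat_lit 7, nat_lit 8, [nat_lit 1], [], nthN cv0 (nat_lit 25)⟩,
  ⟨nat_lit 1, nat_lit 0, nat_lit 0, [nat_lit 128], [], nthN cv0 (nat_lit 26)⟩,
  ⟨nat_lit 0, nat_lit 0, nat_lit 4, [nat_lit 16], [], nthN cv0 (nat_lit 27)⟩,
  ⟨nat_lit 1, nat_lit 0, nat_lit 0, [nat_lit 16], [], nthN cv0 (nat_lit 28)⟩,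
  ⟨nat_lit 0, nat_lit 1, nat_lit 3, [nat_lit 32], [], nthN cv0 (nat_lit 29)⟩,
  ⟨nat_lit 0, nat_lit 1, nat_lit 6, [nat_lit 4], [], nthN cv0 (nat_lit 30)⟩,
  ⟨nat_lit 0, nat_lit 2, nat_lit 6, [nat_lit 4], [], nthN cv0 (nat_lit 31)⟩,
  ⟨nat_lit 1, nat_lit 2, nat_lit 2, [nat_lit 4], [], nthN cv0 (nat_lit 32)⟩,
  ⟨nat_lit 0, nat_lit 0, nat_lit 1, [nat_lit 2], [], nthN cv0 (nat_lit 33)⟩,
  ⟨nat_lit 0, nat_lit 0, nat_lit 1, [nat_lit 1], [], nthN cv0 (nat_lit 34)⟩,
  ⟨nat_lit 0, nat_lit 0, nat_lit 2, [nat_lit 16], [], nthN cv0 (nat_lit 35)⟩,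
  ⟨nat_lit 0, nat_lit 0, nat_lit 2, [nat_lit 4], [], nthN cv0 (nat_lit 36)⟩,
  ⟨nat_lit 0, nat_lit 0, nat_lit 4, [nat_lit 4], [], nthN cv0 (nat_lit 37)⟩,
  ⟨nat_lit 0, nat_lit 0, nat_lit 4, [nat_lit 2], [], nthN cv0 (nat_lit 38)⟩,
  ⟨nat_lit 0, nat_lit 0, nat_lit 4, [nat_lit 1], [], nthN cv0 (nat_lit 39)⟩]

theorem con0 : allL cc0 (P.conOk fu) = true := by decide +kernel

noncomputable def cv1 : List ℕ := [nat_lit 0x3000000000000000000000000000000000000000000000000000000000000000000000000000000000000000000000000000000000000000000000000000000000,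
  nat_lit 0x3000000000000000000000000000000000000000000000000000000000000000000000000000000000000000000000000,
  nat_lit 0x3000000000003000003000000000000000000000000000000000000000000000000000000000000000000000003000003000000000000000000000002000000000000,
  nat_lit 0x3003000003000000000000000003000003000000000000000000000000000000000000000000000000002000000000000000000000000000000000000000000000000,
  nat_lit 0x3003000000003000000000000003000000003000000000000000000000000000000000000000000000000000000002000000000000000000000000000000000000000,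
  nat_lit 0x1001000000000001000000000001000000000001000000000000000000000000000000000000000000000000000002000000000000000000000000000000000000000,
  nat_lit 0x1000000000000000000000001000000000000000000000000000000000000000000000000000000000000000000000000000000000000000000000000000000,
  nat_lit 0x3000000001000000000000000000000000000000000000000000000,
  nat_lit 0x3000000001000000000003000000000000000000000000000000000000000000000000000000000000000000000000,
  nat_lit 0x1000000000000000000000001000000000000000000000000000000000000001000000000000000000000000000000000000000000000,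
  nat_lit 0x3003000003003000000000000003000003003000000000000000000000000000000000003003000000000000000000000002000000000000000000000000000000000,
  nat_lit 0x3003000003000003000000000003000003000003000000000000000000000000000000003000003000000000000000000000000000002000000000000000000000000,
  nat_lit 0x1001000001000000001000000001000001000000001000000000000000000000000000001000000001000000000000000000000000002000000000000000000000000,
  nat_lit 0x2001000000000000000000001000000000000000001000000003003003000002000000000000000000000000000000000000000000000000000000000000000000,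
  nat_lit 0x1001000001000000000001000001000000000000000001000000000000000000000000000003003000002000000000000000000000000000000000000000000000000,
  nat_lit 0x1001000001000000000001000001000001000000000000000000000000000000000000001001000000001000000000000001000000000001000000000000000000000,
  nat_lit 0x1000000001000001000000000001000003000000000000000000000000000000000000001000001000001000000001000000000000000002000000000000000000000,
  nat_lit 0x1001003000000001000000001001000000000000000000000000000000000001001000000000000000003000000001000001000000000000000000000000,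
  nat_lit 0x3003000003000003000000001003000002000003000000000000000000000000000000000000003000000001000002000000001003000003001000000000000002000,
  nat_lit 0x2000000000000000000000000000000000000000000000000000000000000000000000000000000000000000000000000000000000000000000000000000000000000000000000000000000,
  nat_lit 0x2000000000000000000000000000000000000000000000000000000000000000000000000000000000000000000000000000000000000000000000000000000000000000000000000000000000,
  nat_lit 0x2000000001000000001000000000000000000000000000000000000000000000000000000000000001000000000000000003000000000000000000000000000000000000000000,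
  nat_lit 0x2000000000000000000000000000000000000000001001000000000000000000000000000000000000000000000000000000000000000000000000000000000000000000000000000000,
  nat_lit 0x2000000000000000000000000000000000000001000001001000000000000000000000000000000000000001000000000000001000000000000000000000000000000000000000000,
  nat_lit 0x3003000000000000000000000000001000000000000000000001003000000000000000000000000000000000000000000000000000000000000000000000000000,
  nat_lit 0x2001001000001001000001000000001000001001000001000000000000000000000000000001001000001000000001000001000000000000000000000000000000000000,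
  nat_lit 0x1000000001000001000000000000003000000000000000000000000000000000000000001000001000000000000003000000000000000000000000000000000000,
  nat_lit 0x3000000000000000000002003000000000000000000000003000000000001000000000001001000000000000000000000000000000000000000000000000000000000000000000000000000,
  nat_lit 0x3003000000000000000000001003000000001000001001000000000000001001001000000000000000000000000000000000000000000000000000000000000000,
  nat_lit 0x3003000000000000000000000000003000000000001001000000003000001001000000000000000000000000000000000001001001001000003000000000000000000000000000000000000000,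
  nat_lit 0x3003000003000000000003003000003003003000003003003000003003000001003003000000000000000000000003000003003000003003000000003003000000000000000003003000000000,
  nat_lit 0x2000000003000003001002001000001003000003002002000000001000000000000000000000002001001002001000001000001000000001003000001001001001001001001,
  nat_lit 0x2000000000000000000000000000000000000000000000000000000000000000000000000000000000000000000000000000000000000000000000000000000000000000000000000000000000000000000000,
  nat_lit 0x2000000000000000000000000000000000000000000000000000000000000000000000000000000000000000000000000000000000000000000000000000000000000000000000000000000000000000000000000,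
  nat_lit 0x2000000000000000000000000000000000000000000000000000000000000000000000000000000000000000000000000000000000000000000000000000000000000000000000000000000000000000000000000000,
  nat_lit 0x2000000000000000000000000001001000001000000000000000001000001000000000000000000000000000000000000001000000000000000000000000000000003000000000000000000000000000,
  nat_lit 0x2000000000000000000000000000001001000001000001000000000001000001000001000000000000000000000000000000000000001000000000000000000000000001000000000000000000000000000,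
  nat_lit 0x2000000000000000000000001001000001000001000000001001000001000001000000001000000000000000000000001000001000000001000000000000000001000000001000000000000000000,
  nat_lit 0x1000000001000000000000001000000001000000000000000000000000000001000000001000000000000000000000000003000000000000000000,
  nat_lit 0x2000000000000000000000000000000000000000000000000000000000000000000000000000000001000000000000000000000000000000000000000000003000000000000000000000000000000000000000000000000000000000000]

noncomputable def cc1 : List Con := [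
  ⟨nat_lit 0, nat_lit 1, nat_lit 6, [nat_lit 1], [], nthN cv1 (nat_lit 0)⟩,
  ⟨nat_lit 0, nat_lit 2, nat_lit 4, [nat_lit 4], [], nthN cv1 (nat_lit 1)⟩,
  ⟨nat_lit 0, nat_lit 1, nat_lit 2, [nat_lit 64], [], nthN cv1 (nat_lit 2)⟩,
  ⟨nat_lit 0, nat_lit 1, nat_lit 5, [nat_lit 8], [], nthN cv1 (nat_lit 3)⟩,
  ⟨nat_lit 0, nat_lit 3, nat_lit 4, [nat_lit 16], [], nthN cv1 (nat_lit 4)⟩,
  ⟨nat_lit 1, nat_lit 3, nat_lit 3, [nat_lit 16], [], nthN cv1 (nat_lit 5)⟩,
  ⟨nat_lit 0, nat_lit 3, nat_lit 4, [nat_lit 4], [], nthN cv1 (nat_lit 6)⟩,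
  ⟨nat_lit 0, nat_lit 0, nat_lit 1, [nat_lit 32], [], nthN cv1 (nat_lit 7)⟩,
  ⟨nat_lit 0, nat_lit 0, nat_lit 1, [nat_lit 4], [], nthN cv1 (nat_lit 8)⟩,
  ⟨nat_lit 0, nat_lit 0, nat_lit 2, [nat_lit 32], [], nthN cv1 (nat_lit 9)⟩,
  ⟨nat_lit 0, nat_lit 1, nat_lit 4, [nat_lit 16], [], nthN cv1 (nat_lit 10)⟩,
  ⟨nat_lit 0, nat_lit 2, nat_lit 3, [nat_lit 32], [], nthN cv1 (nat_lit 11)⟩,
  ⟨nat_lit 1, nat_lit 2, nat_lit 2, [nat_lit 32], [], nthN cv1 (nat_lit 12)⟩,
  ⟨nat_lit 1, nat_lit 1, nat_lit 1, [nat_lit 4], [], nthN cv1 (nat_lit 13)⟩,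
  ⟨nat_lit 1, nat_lit 1, nat_lit 1, [nat_lit 8], [], nthN cv1 (nat_lit 14)⟩,
  ⟨nat_lit 1, nat_lit 1, nat_lit 1, [nat_lit 128], [], nthN cv1 (nat_lit 15)⟩,
  ⟨nat_lit 1, nat_lit 1, nat_lit 1, [nat_lit 32], [], nthN cv1 (nat_lit 16)⟩,
  ⟨nat_lit 0, nat_lit 0, nat_lit 1, [nat_lit 64], [], nthN cv1 (nat_lit 17)⟩,
  ⟨nat_lit 0, nat_lit 0, nat_lit 1, [nat_lit 128], [], nthN cv1 (nat_lit 18)⟩,
  ⟨nat_lit 2, nat_lit 9, nat_lit 0, [nat_lit 5, nat_lit 5], [], nthN cv1 (nat_lit 19)⟩,
  ⟨nat_lit 2, nat_lit 9, nat_lit 0, [nat_lit 6, nat_lit 6], [], nthN cv1 (nat_lit 20)⟩,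
  ⟨nat_lit 2, nat_lit 9, nat_lit 0, [nat_lit 2, nat_lit 2], [], nthN cv1 (nat_lit 21)⟩,
  ⟨nat_lit 2, nat_lit 9, nat_lit 0, [nat_lit 4, nat_lit 4], [], nthN cv1 (nat_lit 22)⟩,
  ⟨nat_lit 2, nat_lit 9, nat_lit 0, [nat_lit 3, nat_lit 3], [], nthN cv1 (nat_lit 23)⟩,
  ⟨nat_lit 2, nat_lit 9, nat_lit 0, [nat_lit 4, nat_lit 2], [nat_lit 2, nat_lit 4], nthN cv1 (nat_lit 24)⟩,
  ⟨nat_lit 2, nat_lit 9, nat_lit 0, [nat_lit 0, nat_lit 0], [], nthN cv1 (nat_lit 25)⟩,
  ⟨nat_lit 2, nat_lit 9, nat_lit 0, [nat_lit 2, nat_lit 0], [nat_lit 0, nat_lit 2], nthN cv1 (nat_lit 26)⟩,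
  ⟨nat_lit 2, nat_lit 9, nat_lit 0, [nat_lit 4, nat_lit 0], [nat_lit 0, nat_lit 4, nat_lit 5], nthN cv1 (nat_lit 27)⟩,
  ⟨nat_lit 2, nat_lit 9, nat_lit 0, [nat_lit 4, nat_lit 1], [nat_lit 1, nat_lit 4], nthN cv1 (nat_lit 28)⟩,
  ⟨nat_lit 2, nat_lit 9, nat_lit 0, [nat_lit 2, nat_lit 1], [nat_lit 1, nat_lit 2, nat_lit 5, nat_lit 6], nthN cv1 (nat_lit 29)⟩,
  ⟨nat_lit 2, nat_lit 9, nat_lit 0, [nat_lit 1, nat_lit 0], [nat_lit 0, nat_lit 1, nat_lit 3, nat_lit 5, nat_lit 6], nthN cv1 (nat_lit 30)⟩,
  ⟨nat_lit 2, nat_lit 9, nat_lit 0, [nat_lit 1, nat_lit 1], [], nthN cv1 (nat_lit 31)⟩,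
  ⟨nat_lit 2, nat_lit 10, nat_lit 0, [nat_lit 10, nat_lit 10], [], nthN cv1 (nat_lit 32)⟩,
  ⟨nat_lit 2, nat_lit 10, nat_lit 0, [nat_lit 11, nat_lit 11], [], nthN cv1 (nat_lit 33)⟩,
  ⟨nat_lit 2, nat_lit 10, nat_lit 0, [nat_lit 12, nat_lit 12], [], nthN cv1 (nat_lit 34)⟩,
  ⟨nat_lit 2, nat_lit 10, nat_lit 0, [nat_lit 8, nat_lit 8], [], nthN cv1 (nat_lit 35)⟩,
  ⟨nat_lit 2, nat_lit 10, nat_lit 0, [nat_lit 9, nat_lit 9], [], nthN cv1 (nat_lit 36)⟩,
  ⟨nat_lit 2, nat_lit 10, nat_lit 0, [nat_lit 7, nat_lit 7], [], nthN cv1 (nat_lit 37)⟩,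
  ⟨nat_lit 2, nat_lit 10, nat_lit 0, [nat_lit 8, nat_lit 7], [nat_lit 7, nat_lit 8], nthN cv1 (nat_lit 38)⟩,
  ⟨nat_lit 2, nat_lit 11, nat_lit 0, [nat_lit 17, nat_lit 17], [], nthN cv1 (nat_lit 39)⟩]

theorem con1 : allL cc1 (P.conOk fu) = true := by decide +kernel

noncomputable def cv2 : List ℕ := [nat_lit 0x2000000000000000000000000000000000000000000000000000000000000000000000000000000000000000000000000000000000000000000000000000000000000000000000000000000000000000000000000000000000000000000000000000,
  nat_lit 0x2000000000000000000000000000000000000000000001000000000001000000000000000000000000000000000000000000000000000000000000000000000000000001000000000000000000000000003000000000000000,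
  nat_lit 0x2000000000000000000000000000000000000000000000000000000000000000000000000000000000000000000000000000000000000000000000000000000000000000000000000001000000000000000000001000000000000000,
  nat_lit 0x1000003000000000000000000000000000000000000000000000000000000000000000000000000000000000000000000000000000000000000000000,
  nat_lit 0x2000000000000000000000000000000000000000001001001000000000000000000001001000000000000000000001000000000000000000000000000000000000000000000000000000000000000000000000000000003,
  nat_lit 0x2000000000000000000000000000000000000000000000000000000000001001000001000000000000000000000001000000000000000000000000000000000000001000000000000000000000000000000000000000000000000000000000000,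
  nat_lit 0x2000000000000000000000000000000000000000000000001001001000000000000000001001001000000000000000001001000000000000000001000000000000000000000000000000000003000000000000000000000000001,
  nat_lit 0x2000000000000000000000000000000000000000000000000000000000000000000000000000000000001000001000001000000001003000000000000000000001000001000000001000000000000000001000000001000000000000000001,
  nat_lit 0x1001000003000000000000000000000003000000000000000000003000000000000000000000000000000000000000000000000000000000000000003000000000,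
  nat_lit 0x3000000000000000000000000000000000000000000000000000000003000000003000003000000003000000000000003000000000000003000003000000000000000000000000000000000000003000000000000000000000000000000,
  nat_lit 0x3000000000000000000000003000000000000000000003000000000000000000000000000000000000000000003000000000000000000,
  nat_lit 0x2000000000000000000000000000000000000000000000000000000000000000000000000000000000000000000000000000000000000000000000000000000000000000000000000000000000000000000000000000000000000000000000000000000,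
  nat_lit 0x2000000000000000000000000000000000000000000000000000000000000000000000000000000000000000000000000000000000000000000000000000000000000000000003000000000000000000000000000000001000000000000000000000000000,
  nat_lit 0x2000000000000000000000000000000000000000000000000000000000000000000000000000000000000000000000000003000000000000000000000001000000000000000000000000000000000000000000000000000000000000000000000000000000000]

noncomputable def cc2 : List Con := [
  ⟨nat_lit 2, nat_lit 11, nat_lit 0, [nat_lit 20, nat_lit 20], [], nthN cv2 (nat_lit 0)⟩,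
  ⟨nat_lit 2, nat_lit 11, nat_lit 0, [nat_lit 14, nat_lit 14], [], nthN cv2 (nat_lit 1)⟩,
  ⟨nat_lit 2, nat_lit 11, nat_lit 0, [nat_lit 16, nat_lit 16], [], nthN cv2 (nat_lit 2)⟩,
  ⟨nat_lit 2, nat_lit 11, nat_lit 0, [nat_lit 20, nat_lit 14], [nat_lit 14, nat_lit 20], nthN cv2 (nat_lit 3)⟩,
  ⟨nat_lit 2, nat_lit 11, nat_lit 0, [nat_lit 13, nat_lit 13], [], nthN cv2 (nat_lit 4)⟩,
  ⟨nat_lit 2, nat_lit 11, nat_lit 0, [nat_lit 19, nat_lit 19], [], nthN cv2 (nat_lit 5)⟩,
  ⟨nat_lit 2, nat_lit 11, nat_lit 0, [nat_lit 15, nat_lit 15], [], nthN cv2 (nat_lit 6)⟩,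
  ⟨nat_lit 2, nat_lit 11, nat_lit 0, [nat_lit 18, nat_lit 18], [], nthN cv2 (nat_lit 7)⟩,
  ⟨nat_lit 2, nat_lit 11, nat_lit 0, [nat_lit 14, nat_lit 13], [nat_lit 13, nat_lit 14], nthN cv2 (nat_lit 8)⟩,
  ⟨nat_lit 2, nat_lit 11, nat_lit 0, [nat_lit 16, nat_lit 13], [nat_lit 13, nat_lit 16, nat_lit 17], nthN cv2 (nat_lit 9)⟩,
  ⟨nat_lit 2, nat_lit 11, nat_lit 0, [nat_lit 15, nat_lit 13], [nat_lit 13, nat_lit 15], nthN cv2 (nat_lit 10)⟩,
  ⟨nat_lit 2, nat_lit 12, nat_lit 0, [nat_lit 21, nat_lit 21], [], nthN cv2 (nat_lit 11)⟩,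
  ⟨nat_lit 2, nat_lit 12, nat_lit 0, [nat_lit 22, nat_lit 22], [], nthN cv2 (nat_lit 12)⟩,
  ⟨nat_lit 2, nat_lit 12, nat_lit 0, [nat_lit 23, nat_lit 23], [], nthN cv2 (nat_lit 13)⟩]

theorem con2 : allL cc2 (P.conOk fu) = true := by decide +kernel

noncomputable def CV : List (List ℕ) := [cv0, cv1, cv2]

noncomputable def MU : List (List ℕ) := [[nat_lit 0x10a0070003000800002024084c32a987c280000000800001],
  [nat_lit 0,
  nat_lit 0],
  [nat_lit 0x402008000000c000808208721322a0080020002800002,
  nat_lit 0,
  nat_lit 0x1003000080300008000eb840028200010003c00003],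
  [nat_lit 0xc0000000000001,
  nat_lit 0x10a407100301088430f42c394aed31756c00010003400001,
  nat_lit 0,
  nat_lit 0x3],
  [nat_lit 0x10a40710c301088430bc2c1949e57df54c00010003400000,
  nat_lit 0x300c00000040077741481332d1fed80010003000003,
  nat_lit 0x100c00000400080083000044b529140030001400001,
  nat_lit 0x30ac0d308303080c30ac2c18c6cd5bed6740020002000001,
  nat_lit 0x200809208002004800a004018f58e2875d80030001400002],
  [nat_lit 0x4000000000800010020088f03cc0000000000003,
  nat_lit 0x30ac0d308303080c30a02c18c7c9db2d7740020002000001,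
  nat_lit 0x1000000000000000000,
  nat_lit 0xc000000000000010000000f000c0000000000001,
  nat_lit 0x4000000000800010020088f031c0000000000003,
  nat_lit 0x20080a20c0020088002800118822aaf82e40030001400001],
  [nat_lit 0x4000004000000000800020020088f03c00000000000002,
  nat_lit 0,
  nat_lit 0xc00000c0000c0c0080102c420060589400000000c00002,
  nat_lit 0x400000c300000000000000000,
  nat_lit 0x3004000000400a004304c3d1177bac0010003c00003,
  nat_lit 0x10000000000000000000,
  nat_lit 0x10a0030003000800002024080d316987c280000000800001],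
  [nat_lit 0xc000000000000000000,
  nat_lit 0x3004000000400a034348c352d6ffac0010003000003,
  nat_lit 0x800300c000080800a024388c3141d352c0010003400003,
  nat_lit 0x100000000000000000,
  nat_lit 0x1000000000000000000000,
  nat_lit 0x40000000000000000000,
  nat_lit 0x3004000000000a004300c31c177bac0010003c00003,
  nat_lit 0x100c000000000a00c10041343ddda40030001400001],
  [nat_lit 0xc00000000080002002008c501440000000000001,
  nat_lit 0x100c000000c0020dc3c851fef454bc0030001000001,
  nat_lit 0x10080000000000808200d1bc2228080030001400002,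
  nat_lit 0x400000000000000000,
  nat_lit 0x80000053940802000000000000000,
  nat_lit 0x100000000000000000000,
  nat_lit 0x100c000000000a00c10c41343dd9a40030001400001,
  nat_lit 0x400000000000000000000,
  nat_lit 0x20080920c0020088002004118f16ab7f4e40000000000001]]

noncomputable def lv : List (List (List ℕ) × ℕ × List (ℕ × List ℕ)) := [
  ([[nat_lit 1], [nat_lit 3], [nat_lit 4], [nat_lit 5], [nat_lit 6], [nat_lit 7], [nat_lit 8]], nat_lit 0, [(nat_lit 0, []), (nat_lit 4, [nat_lit 4, nat_lit 1, nat_lit 0]), (nat_lit 7, [nat_lit 5, nat_lit 2, nat_lit 0, nat_lit 1]), (nat_lit 8, [nat_lit 1, nat_lit 2, nat_lit 0]), (nat_lit 13, [nat_lit 6, nat_lit 0, nat_lit 2]), (nat_lit 16, [nat_lit 0, nat_lit 4, nat_lit 0, nat_lit 2]), (nat_lit 23, [nat_lit 4, nat_lit 1, nat_lit 2, nat_lit 0]), (nat_lit 25, [nat_lit 5, nat_lit 4, nat_lit 2]), (nat_lit 27, [nat_lit 3, nat_lit 0, nat_lit 0]), (nat_lit 31, [nat_lit 6, nat_lit 5, nat_lit 0]), (nat_lit 34, [nat_lit 5, nat_lit 4, nat_lit 1]), (nat_lit 35, [nat_lit 4, nat_lit 3]), (nat_lit 36, [nat_lit 5, nat_lit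 1]), (nat_lit 39, [nat_lit 2, nat_lit 0, nat_lit 3]), (nat_lit 41, [nat_lit 4, nat_lit 2, nat_lit 1]), (nat_lit 44, [nat_lit 6, nat_lit 4, nat_lit 2]), (nat_lit 51, [nat_lit 6, nat_lit 0, nat_lit 4, nat_lit 0]), (nat_lit 55, [nat_lit 3, nat_lit 0, nat_lit 4]), (nat_lit 57, [nat_lit 3, nat_lit 0]), (nat_lit 58, [nat_lit 4, nat_lit 2, nat_lit 0, nat_lit 1]), (nat_lit 60, [nat_lit 4, nat_lit 3, nat_lit 1, nat_lit 0]), (nat_lit 62, [nat_lit 4, nat_lit 0, nat_lit 1]), (nat_lit 63, [nat_lit 5, nat_lit 4]), (nat_lit 65, [nat_lit 1, nat_lit 0, nat_lit 4, nat_lit 0]), (nat_lit 69, [nat_lit 2, nat_lit 0, nat_lit 1]), (nat_lit 70, [nat_lit 6, nat_lit 4, nat_lit 0]), (nat_lit 75, [nat_lit 1]), (nat_lit 78, [nat_lit 2, nat_lit 1]), (nat_lit 87, [nat_lit 1, nat_lit 0, nat_lit 0]), (nat_lit 88, [nat_lit 5]), (nat_lit 92, [nat_lit 4, nat_lit 0, nat_lit 0]), (nat_lit 93, [nat_lit 6, nat_lit 0]), (nat_lit 94, [nat_lit 4, nat_lit 3, nat_lit 1]), (nat_lit 101, [nat_lit 6, nat_lit 0, nat_lit 4, nat_lit 2]), (nat_lit 106, [nat_lit 6, nat_lit 4, nat_lit 2, nat_lit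 0]), (nat_lit 109, [nat_lit 5, nat_lit 1, nat_lit 0, nat_lit 0]), (nat_lit 110, [nat_lit 6, nat_lit 5, nat_lit 4, nat_lit 3]), (nat_lit 113, [nat_lit 0, nat_lit 3, nat_lit 0, nat_lit 0]), (nat_lit 114, [nat_lit 5, nat_lit 3, nat_lit 0]), (nat_lit 117, [nat_lit 4, nat_lit 3, nat_lit 0, nat_lit 1]), (nat_lit 123, [nat_lit 6, nat_lit 5, nat_lit 0, nat_lit 0]), (nat_lit 124, [nat_lit 4, nat_lit 1]), (nat_lit 127, [nat_lit 0]), (nat_lit 129, [nat_lit 4, nat_lit 0, nat_lit 3]), (nat_lit 131, [nat_lit 5, nat_lit 4, nat_lit 3]), (nat_lit 132, [nat_lit 5, nat_lit 3]), (nat_lit 134, [nat_lit 4, nat_lit 3, nat_lit 2]), (nat_lit 146, [nat_lit 3, nat_lit 2]), (nat_lit 147, [nat_lit 6, nat_lit 0, nat_lit 4]), (nat_lit 150, [nat_lit 4, nat_lit 1, nat_lit 2, nat_lit 1]), (nat_lit 151, [nat_lit 5, nat_lit 0, nat_lit 0]), (nat_lit 153, [nat_lit 6, nat_lit 4, nat_lit 0, nat_lit 2]), (nat_lit 155, [nat_lit 6, nat_lit 3]), (nat_lit 157, [nat_lit 5, nat_lit 0, nat_lit 2]), (nat_lit 158, [nat_lit 4, nat_lit 3, nat_lit 0, nat_lit 0]), (nat_lit 163, [nat_lit 6, nat_lit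 4, nat_lit 3]), (nat_lit 166, [nat_lit 6, nat_lit 2, nat_lit 0]), (nat_lit 170, [nat_lit 5, nat_lit 0, nat_lit 0, nat_lit 0]), (nat_lit 172, [nat_lit 0, nat_lit 4, nat_lit 0]), (nat_lit 175, [nat_lit 6, nat_lit 4, nat_lit 0, nat_lit 0]), (nat_lit 177, [nat_lit 6, nat_lit 2]), (nat_lit 178, [nat_lit 4, nat_lit 0, nat_lit 0, nat_lit 0]), (nat_lit 179, [nat_lit 4, nat_lit 2, nat_lit 1, nat_lit 0]), (nat_lit 184, [nat_lit 2, nat_lit 0, nat_lit 0]), (nat_lit 189, [nat_lit 6, nat_lit 4, nat_lit 1, nat_lit 0]), (nat_lit 190, [nat_lit 1, nat_lit 2, nat_lit 1]), (nat_lit 191, [nat_lit 0, nat_lit 4, nat_lit 1]), (nat_lit 193, [nat_lit 5, nat_lit 0, nat_lit 1]), (nat_lit 194, [nat_lit 6, nat_lit 4, nat_lit 0, nat_lit 1]), (nat_lit 195, [nat_lit 3, nat_lit 1, nat_lit 0]), (nat_lit 199, [nat_lit 6, nat_lit 0, nat_lit 1]), (nat_lit 200, [nat_lit 4, nat_lit 1, nat_lit 0, nat_lit 0]), (nat_lit 201, [nat_lit 2, nat_lit 0, nat_lit 4, nat_lit 1]), (nat_lit 207, [nat_lit 0, nat_lit 4, nat_lit 2, nat_lit 1]), (nat_lit 215, [nat_lit 6]), (nat_lit 217, [nat_lit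 6, nat_lit 1]), (nat_lit 219, [nat_lit 6, nat_lit 4, nat_lit 3, nat_lit 1]), (nat_lit 221, [nat_lit 6, nat_lit 5, nat_lit 4, nat_lit 1]), (nat_lit 223, [nat_lit 6, nat_lit 3, nat_lit 1]), (nat_lit 229, [nat_lit 2, nat_lit 1, nat_lit 0]), (nat_lit 230, [nat_lit 3, nat_lit 0, nat_lit 1]), (nat_lit 235, [nat_lit 0, nat_lit 0]), (nat_lit 237, [nat_lit 4, nat_lit 2]), (nat_lit 238, [nat_lit 4, nat_lit 0]), (nat_lit 240, [nat_lit 1, nat_lit 2]), (nat_lit 241, [nat_lit 0, nat_lit 3, nat_lit 2]), (nat_lit 245, [nat_lit 5, nat_lit 1, nat_lit 0]), (nat_lit 250, [nat_lit 4, nat_lit 0, nat_lit 3, nat_lit 2]), (nat_lit 252, [nat_lit 4, nat_lit 3, nat_lit 0]), (nat_lit 253, [nat_lit 6, nat_lit 5, nat_lit 3]), (nat_lit 255, [nat_lit 4, nat_lit 0, nat_lit 3, nat_lit 0]), (nat_lit 258, [nat_lit 6, nat_lit 4]), (nat_lit 261, [nat_lit 6, nat_lit 1, nat_lit 0]), (nat_lit 272, [nat_lit 0, nat_lit 3]), (nat_lit 273, [nat_lit 2]), (nat_lit 277, [nat_lit 0, nat_lit 2]), (nat_lit 281, [nat_lit 3, nat_lit 1]), (nat_lit 282, [nat_lit 0, nat_lit 1]), (nat_lit 283, [nat_lit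 0, nat_lit 3, nat_lit 0]), (nat_lit 284, [nat_lit 1, nat_lit 0, nat_lit 4]), (nat_lit 287, [nat_lit 0, nat_lit 4, nat_lit 0, nat_lit 0]), (nat_lit 288, [nat_lit 1, nat_lit 0]), (nat_lit 289, [nat_lit 4, nat_lit 2, nat_lit 0, nat_lit 0]), (nat_lit 290, [nat_lit 4, nat_lit 0, nat_lit 0, nat_lit 1]), (nat_lit 293, [nat_lit 3]), (nat_lit 297, [nat_lit 5, nat_lit 2]), (nat_lit 307, [nat_lit 6, nat_lit 5, nat_lit 4]), (nat_lit 310, [nat_lit 0, nat_lit 0, nat_lit 1]), (nat_lit 312, [nat_lit 0, nat_lit 4, nat_lit 1, nat_lit 2]), (nat_lit 313, [nat_lit 4, nat_lit 2, nat_lit 0]), (nat_lit 315, [nat_lit 4]), (nat_lit 316, [nat_lit 2, nat_lit 0]), (nat_lit 320, [nat_lit 6, nat_lit 2, nat_lit 0, nat_lit 0]), (nat_lit 321, [nat_lit 0, nat_lit 4]), (nat_lit 325, [nat_lit 6, nat_lit 3, nat_lit 0]), (nat_lit 327, [nat_lit 0, nat_lit 4, nat_lit 3]), (nat_lit 333, [nat_lit 0, nat_lit 4, nat_lit 2]), (nat_lit 338, [nat_lit 4, nat_lit 0, nat_lit 2]), (nat_lit 346, [nat_lit 0, nat_lit 0, nat_lit 0]), (nat_lit 349, [nat_lit 2, nat_lit 0, nat_lit 4]), (nat_lit 353,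 [nat_lit 5, nat_lit 0]), (nat_lit 354, [nat_lit 6, nat_lit 4, nat_lit 1]), (nat_lit 356, [nat_lit 4, nat_lit 1, nat_lit 2]), (nat_lit 357, [nat_lit 6, nat_lit 0, nat_lit 0]), (nat_lit 358, [nat_lit 6, nat_lit 5]), (nat_lit 359, [nat_lit 3, nat_lit 0, nat_lit 0, nat_lit 0]), (nat_lit 361, [nat_lit 5, nat_lit 2, nat_lit 0]), (nat_lit 362, [nat_lit 6, nat_lit 5, nat_lit 1])]),
  ([[nat_lit 2]], nat_lit 45, [(nat_lit 45, []), (nat_lit 306, [nat_lit 0])]),
  ([[nat_lit 0]], nat_lit 115, [(nat_lit 115, []), (nat_lit 311, [nat_lit 0])])]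

theorem rel0 : P.relRow (dT T W) B 0 = true := by decide +kernel
theorem rel1 : P.relRow (dT T W) B 1 = true := by decide +kernel
theorem rel2 : P.relRow (dT T W) B 2 = true := by decide +kernel
theorem rel3 : P.relRow (dT T W) B 3 = true := by decide +kernel
theorem rel4 : P.relRow (dT T W) B 4 = true := by decide +kernel
theorem rel5 : P.relRow (dT T W) B 5 = true := by decide +kernel
theorem rel6 : P.relRow (dT T W) B 6 = true := by decide +kernel
theorem rel7 : P.relRow (dT T W) B 7 = true := by decide +kernel
theorem rel8 : P.relRow (dT T W) B 8 = true := by decide +kernel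
theorem fus0 : P.fusOk (dT T W) B fu 0 = true := by decide +kernel
theorem fus1 : P.fusOk (dT T W) B fu 1 = true := by decide +kernel
theorem fus2 : P.fusOk (dT T W) B fu 2 = true := by decide +kernel
theorem fus3 : P.fusOk (dT T W) B fu 3 = true := by decide +kernel
theorem fus4 : P.fusOk (dT T W) B fu 4 = true := by decide +kernel
theorem fus5 : P.fusOk (dT T W) B fu 5 = true := by decide +kernel
theorem fus6 : P.fusOk (dT T W) B fu 6 = true := by decide +kernel
theorem fus7 : P.fusOk (dT T W) B fu 7 = true := by decide +kernel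
theorem fus8 : P.fusOk (dT T W) B fu 8 = true := by decide +kernel
theorem fus9 : P.fusOk (dT T W) B fu 9 = true := by decide +kernel
theorem fus10 : P.fusOk (dT T W) B fu 10 = true := by decide +kernel
theorem fus11 : P.fusOk (dT T W) B fu 11 = true := by decide +kernel
theorem fus12 : P.fusOk (dT T W) B fu 12 = true := by decide +kernel
theorem fus13 : P.fusOk (dT T W) B fu 13 = true := by decide +kernel
theorem fus14 : P.fusOk (dT T W) B fu 14 = true := by decide +kernel
theorem fus15 : P.fusOk (dT T W) B fu 15 = true := by decide +kernel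
theorem fus16 : P.fusOk (dT T W) B fu 16 = true := by decide +kernel
theorem fus17 : P.fusOk (dT T W) B fu 17 = true := by decide +kernel
theorem fus18 : P.fusOk (dT T W) B fu 18 = true := by decide +kernel
theorem fus19 : P.fusOk (dT T W) B fu 19 = true := by decide +kernel
theorem fus20 : P.fusOk (dT T W) B fu 20 = true := by decide +kernel
theorem fus21 : P.fusOk (dT T W) B fu 21 = true := by decide +kernel
theorem fus22 : P.fusOk (dT T W) B fu 22 = true := by decide +kernel
theorem fus23 : P.fusOk (dT T W) B fu 23 = true := by decide +kernel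
theorem fin0 : P.finRow lam (bs :: CV) MU 0 = true := by decide +kernel
theorem fin1 : P.finRow lam (bs :: CV) MU 1 = true := by decide +kernel
theorem fin2 : P.finRow lam (bs :: CV) MU 2 = true := by decide +kernel
theorem fin3 : P.finRow lam (bs :: CV) MU 3 = true := by decide +kernel
theorem fin4 : P.finRow lam (bs :: CV) MU 4 = true := by decide +kernel
theorem fin5 : P.finRow lam (bs :: CV) MU 5 = true := by decide +kernel
theorem fin6 : P.finRow lam (bs :: CV) MU 6 = true := by decide +kernel
theorem fin7 : P.finRow lam (bs :: CV) MU 7 = true := by decide +kernel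
theorem fin8 : P.finRow lam (bs :: CV) MU 8 = true := by decide +kernel

theorem pm {G : Type*} [Group G] [Finite G] {A : RAct G 364} {g : ℕ → G} (hb : A.IsBase B)
    (h : A.Tab g 22 T) (ho : Nat.card G = 4585351680) : PMult G 2 1 1 :=
  pmult_of_tab hb h ho P (show Nat.Prime 2 by norm_num) W fu 1 lam bs mo [cc0, cc1, cc2] CV MU lv 24
    (by decide +kernel) (forall_lt_succ' (forall_lt_succ' (forall_lt_succ' (forall_lt_succ' (forall_lt_succ' (forall_lt_succ' (forall_lt_succ' (forall_lt_succ' (forall_lt_succ' forall_lt_zero' rel0) rel1) rel2) rel3) rel4) rel5) rel6) rel7) rel8) (by decide +kernel)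
    (forall_lt_succ' (forall_lt_succ' (forall_lt_succ' (forall_lt_succ' (forall_lt_succ' (forall_lt_succ' (forall_lt_succ' (forall_lt_succ' (forall_lt_succ' (forall_lt_succ' (forall_lt_succ' (forall_lt_succ' (forall_lt_succ' (forall_lt_succ' (forall_lt_succ' (forall_lt_succ' (forall_lt_succ' (forall_lt_succ' (forall_lt_succ' (forall_lt_succ' (forall_lt_succ' (forall_lt_succ' (forall_lt_succ' (forall_lt_succ' forall_lt_zero' fus0) fus1) fus2) fus3) fus4) fus5) fus6) fus7) fus8) fus9) fus10) fus11) fus12) fus13) fus14) fus15) fus16) fus17) fus18) fus19) fus20) fus21) fus22) fus23)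
    (by decide +kernel) (by decide +kernel) (by decide +kernel) (by decide +kernel)
    (List.forall_mem_cons.mpr ⟨con0, (List.forall_mem_cons.mpr ⟨con1, (List.forall_mem_cons.mpr ⟨con2, (by simp)⟩)⟩)⟩)
    (forall_lt_succ' (forall_lt_succ' (forall_lt_succ' (forall_lt_succ' (forall_lt_succ' (forall_lt_succ' (forall_lt_succ' (forall_lt_succ' (forall_lt_succ' forall_lt_zero' fin0) fin1) fin2) fin3) fin4) fin5) fin6) fin7) fin8) (by decide +kernel)

end Cfsg.Agent.H3.O7.P2
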