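import Cfsg.Agent.L0.CosetChain

/-! Generated coset table certificate. -/

set_option autoImplicit false
set_option maxRecDepth 100000

open Cfsg.Agent.L0

namespace Cfsg.Agent.H3.O7.Tc2

noncomputable def t0 : BT := .leaf (nat_lit 0x28a7a5a4a5a4a6a5a3a2a162a38000248000238000002c620a0a0a0a0a0a0a0a0a08120a0800020800020800000000)

noncomputable def tree : BT := t0

noncomputable def row : ℕ → ℕ := rowOf tree (nat_lit 3) (nat_lit 7) (nat_lit 187) (nat_lit 0x7ffffffffffffffffffffffffffffffffffffffffffffff)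

noncomputable def cols : List Col := [⟨nat_lit 35, nat_lit 1, [([nat_lit 91, nat_lit 99, nat_lit 59, nat_lit 139, nat_lit 115, nat_lit 163, nat_lit 99], nat_lit 0)]⟩,
  ⟨nat_lit 59, nat_lit 1, [([nat_lit 35], nat_lit 0)]⟩,
  ⟨nat_lit 83, nat_lit 1, [([nat_lit 91], nat_lit 0)]⟩,
  ⟨nat_lit 91, nat_lit 1, [([nat_lit 99, nat_lit 107, nat_lit 99], nat_lit 0)]⟩,
  ⟨nat_lit 99, nat_lit 0, [([nat_lit 99], nat_lit 0)]⟩,
  ⟨nat_lit 107, nat_lit 1, [([nat_lit 99, nat_lit 91, nat_lit 99], nat_lit 0)]⟩,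
  ⟨nat_lit 115, nat_lit 1, [([nat_lit 107], nat_lit 0)]⟩,
  ⟨nat_lit 123, nat_lit 1, [([nat_lit 59, nat_lit 107, nat_lit 91, nat_lit 59, nat_lit 83, nat_lit 115], nat_lit 0)]⟩,
  ⟨nat_lit 131, nat_lit 1, [([nat_lit 123], nat_lit 0)]⟩,
  ⟨nat_lit 139, nat_lit 1, [([nat_lit 107, nat_lit 91, nat_lit 107, nat_lit 107, nat_lit 83, nat_lit 115], nat_lit 0)]⟩,
  ⟨nat_lit 147, nat_lit 1, [([nat_lit 139], nat_lit 0)]⟩,
  ⟨nat_lit 155, nat_lit 1, [([nat_lit 83, nat_lit 83], nat_lit 0)]⟩,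
  ⟨nat_lit 163, nat_lit 1, [([nat_lit 155], nat_lit 0)]⟩,
  ⟨nat_lit 171, nat_lit 1, [([nat_lit 163, nat_lit 131, nat_lit 147, nat_lit 155], nat_lit 0)]⟩,
  ⟨nat_lit 179, nat_lit 1, [([nat_lit 171], nat_lit 0)]⟩]

noncomputable def erots : List (List ℕ × ℕ) := []

noncomputable def gens : List ℕ := [nat_lit 35, nat_lit 59, nat_lit 83, nat_lit 91, nat_lit 99, nat_lit 107, nat_lit 115, nat_lit 123, nat_lit 131, nat_lit 139, nat_lit 147, nat_lit 155, nat_lit 163, nat_lit 171, nat_lit 179]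

noncomputable def chk : ℕ → Bool := chkRow0 row (nat_lit 2) (nat_lit 0x3) (nat_lit 0x3c) (nat_lit 6) (nat_lit 0x3) (nat_lit 0) (nat_lit 0x3) (nat_lit 2) (nat_lit 0xff) (nat_lit 0x400) [] cols gens

theorem b0 : allR chk 1 0 = true := by decide +kernel

noncomputable def T : CT := ⟨row, nat_lit 2, nat_lit 2, nat_lit 0x3, nat_lit 0x3c, nat_lit 6, nat_lit 0x3, nat_lit 0, nat_lit 0x3, nat_lit 2, nat_lit 0xff, nat_lit 0x400, nat_lit 187, nat_lit 187, nat_lit 0, nat_lit 8, [], cols, erots, gens⟩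

theorem all : ∀ c < 2, chk c = true := fun c hc =>
  allR_glue (d := 1) (n := 1) (forall_lt_succ' forall_lt_zero' b0) c (lt_of_lt_of_le hc (by norm_num))

/-- the relators used -/
def R : List (List ℕ) := [[nat_lit 3, nat_lit 6],
  [nat_lit 9, nat_lit 10],
  [nat_lit 11, nat_lit 11],
  [nat_lit 12, nat_lit 13],
  [nat_lit 14, nat_lit 15],
  [nat_lit 16, nat_lit 17],
  [nat_lit 18, nat_lit 19],
  [nat_lit 20, nat_lit 21],
  [nat_lit 11, nat_lit 10, nat_lit 11, nat_lit 12],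
  [nat_lit 6, nat_lit 12, nat_lit 10, nat_lit 6, nat_lit 9, nat_lit 13, nat_lit 14],
  [nat_lit 12, nat_lit 10, nat_lit 12, nat_lit 12, nat_lit 9, nat_lit 13, nat_lit 16],
  [nat_lit 9, nat_lit 9, nat_lit 18],
  [nat_lit 19, nat_lit 15, nat_lit 17, nat_lit 18, nat_lit 20],
  [nat_lit 3, nat_lit 10, nat_lit 11, nat_lit 6, nat_lit 16, nat_lit 13, nat_lit 19, nat_lit 11]]

theorem cert : Cert T (R.map fun r => (r, 0)) ([3, 6, 9, 10, 12, 13, 14, 15, 16, 17, 18, 19, 20, 21].map fun y => (y, 0)) 11 8 [3, 6, 9, 10, 11, 12, 13, 14, 15, 16, 17, 18, 19, 20, 21] :=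
  ⟨by decide +kernel, ⟨[[(13, 0)], [(0, 1)], [(1, 0)], [(8, 1)], [(2, 0)], [(8, 3)], [(3, 1)], [(9, 6)], [(4, 1)], [(10, 6)], [(5, 1)], [(11, 2)], [(6, 1)], [(12, 4)], [(7, 1)]], [], by decide +kernel⟩, by decide +kernel, Or.inl ⟨rfl, all⟩⟩

theorem bound {Γ : Type*} [Group Γ] {x : ℕ → Γ} (hR : ∀ r ∈ R, ev x r = 1) {n : ℕ}
    (h : CardLe x [3, 6, 9, 10, 12, 13, 14, 15, 16, 17, 18, 19, 20, 21] n) : CardLe x [3, 6, 9, 10, 11, 12, 13, 14, 15, 16, 17, 18, 19, 20, 21] (2 * n) :=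
  cert.cardLe rfl hR h

end Cfsg.Agent.H3.O7.Tc2
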