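import Cfsg.Agent.L0.CosetChain

/-! Generated coset table certificate. -/

set_option autoImplicit false
set_option maxRecDepth 100000

open Cfsg.Agent.L0

namespace Cfsg.Agent.H3.O7.Tc3

noncomputable def t0 : BT := .node (.node (.node (.leaf (nat_lit 0x27c9650e2757001d6513001c24c4248620432515000028da21470000000021c60000000030c40000000000004d208a15ce118006d6168006800649d155024006081080000c4211d5c000000009c24000000009c14000000000001388128870017270f001600150014844834c4204200130000001222090000000022040000000031880000000000004d2049a3c981107408428872800455a24dc1c004081040000c2110438000000009d1c000000014e24000000000000b8802645000f000e000d248b000c250644882041000b0000000a20c50000000021080000000021c60000000000002d200870c860c850dc40c840d830cc20c830c0024002000008308c5080000000083080000000101040000000000009c80220241c221c2218221c2218220c240820007000600002183708300000000204100000000208300000000000024200400440044004400440044004400440040014001000004004400400000000000c0000000000080000000000000000))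 (.leaf (nat_lit 0x2a644a2428e428a4272466e4376427a4205d459e000025a228620000000027e30000000036a00000000000008d270ab8d2a8c9a8c998d1d8cde8ca08d1f8c8158d5640000d7855684000000009e80000000009e9000000000000234952a2229e228e228a228e228a229a249622055489b00004824556400000000249f0000000035210000000000008d250aa84a9849a849984a0849f84a8852784814cd5600000978c988c00000000958800000000957c0000000000023492))) (.leaf (nat_lit 0x25d3664a24123389255d45d745d0645b25a120470000270f341600000000279b0000000087100000000000006e2188118a01cde755c2098611d750f5c905ca23c9f3c00009e1ca46c00000000a33c00000001e038000000000001d485469c45d92046368f274f269b760d26dd24de002300002458309200000000251d00000000630d000000000000732149e49d86c97649450e050c1199a2d9e4d9320008800008a78de7000000000e04c00000001de2c000000000001c88525d1254d255525592046385523d4539422d222520000325384de00000000218c00000000281c000000000000712149b28966095799c716270d5209f54df2c81180084000113648a5000000000862c000000012154000000000001b48527db2755228943d8255e53093312235252146294000020d6204600000000289a00000000410a0000000000006b2149434d6510e30902c811490291e64e07892814c340000ce30d02c000000008a780000000145640000000000014484)))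 (.node (.leaf (nat_lit 0x24cb28da228a320524cd53ce571b2618249f20450000230e328d0000000027580000000044db0000000000004e2108110d914d9591b189a6d1c59113c923cde5d215c00009d24db6000000000a23800000000a25c0000000000015483254837c920cd3044241021cd25ce958e434e238e0000214532d000000000285700000000884f0000000000005420c96511344811102388839d2409d7499588d44008000008b40c228000000008d580000000094740000000000014c83379e251d248b33d12044550b33cc240c214a20ca000030cb23d100000000281c0000000051540000000000005120ca56892409144913095309110a04c9b548110007c000091448430000000009f5400000000c54c0000000000013483269836932145425024515185230a52ca508c610c000020cd20440000000050d200000000381a0000000000004b20ca0389e210d6089488d480078911c9b14d76c810c0000c7191c3c000000008f14000000025b1c0000000000013882)) (.leaf (nat_lit 0x27e027a025a0256044e0352027605720204d3451000034df549f0000000026e40000000067630000000000006d230a07d1f7c967c957c967c957ca47d637c812cd14000009380948000000000968400000000d188000000000001b48a26dd57cc36dc25132049251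22851275925e454960000251462550000000022590000000022510000000000007122095311a788120df5c9e5e1460da58dc349c64009000009a6d9e6800000000953400000001d358000000000001cc87275956d62753371e204838d3265c861c481a279a000027d537590000000028540000000067cc0000000000007121c9954de496568c11c9b59193c92609d40a38898240000e35dd974000000011240000000009d60000000000001d0862910390b2887399b39d93047299a795a375c285c000027dd388800000000284a000000002852000000000000722189858dc7096511654811ce8691c789f44968d5b7400009e70944c000000008644000000014878000000000001c486)))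

noncomputable def tree : BT := t0

noncomputable def row : ℕ → ℕ := rowOf tree (nat_lit 3) (nat_lit 7) (nat_lit 370) (nat_lit 0x3ffffffffffffffffffffffffffffffffffffffffffffffffffffffffffffffffffffffffffffffffffffffffffff)

noncomputable def cols : List Col := [⟨nat_lit 66, nat_lit 0, [([nat_lit 66, nat_lit 66], nat_lit 0), ([nat_lit 226, nat_lit 178, nat_lit 66, nat_lit 162, nat_lit 210], nat_lit 0), ([nat_lit 114], nat_lit 0), ([nat_lit 290, nat_lit 178, nat_lit 66, nat_lit 162, nat_lit 274], nat_lit 0), ([nat_lit 162, nat_lit 210, nat_lit 66, nat_lit 226, nat_lit 178], nat_lit 0), ([nat_lit 162, nat_lit 66, nat_lit 258, nat_lit 162, nat_lit 242, nat_lit 306], nat_lit 0), ([nat_lit 162, nat_lit 274, nat_lit 66, nat_lit 290, nat_lit 178], nat_lit 0), ([nat_lit 242, nat_lit 114, nat_lit 258], nat_lit 0)]⟩,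
  ⟨nat_lit 114, nat_lit 0, [([nat_lit 66], nat_lit 0), ([nat_lit 258, nat_lit 66, nat_lit 242], nat_lit 0), ([nat_lit 210, nat_lit 178, nat_lit 114, nat_lit 162, nat_lit 226, nat_lit 242], nat_lit 0), ([nat_lit 162, nat_lit 226, nat_lit 242, nat_lit 114, nat_lit 210, nat_lit 178], nat_lit 0)]⟩,
  ⟨nat_lit 162, nat_lit 1, [([nat_lit 178], nat_lit 0), ([nat_lit 162, nat_lit 306], nat_lit 0), ([nat_lit 306, nat_lit 162], nat_lit 0), ([nat_lit 226, nat_lit 274, nat_lit 210, nat_lit 178, nat_lit 210, nat_lit 210], nat_lit 0), ([nat_lit 274, nat_lit 162, nat_lit 274], nat_lit 0), ([nat_lit 66, nat_lit 258, nat_lit 162, nat_lit 242, nat_lit 306, nat_lit 66], nat_lit 0), ([nat_lit 210, nat_lit 66, nat_lit 226, nat_lit 178, nat_lit 66], nat_lit 0)]⟩,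
  ⟨nat_lit 178, nat_lit 1, [([nat_lit 162], nat_lit 0), ([nat_lit 226, nat_lit 178, nat_lit 226], nat_lit 0), ([nat_lit 114, nat_lit 162, nat_lit 226, nat_lit 242, nat_lit 114, nat_lit 210], nat_lit 0)]⟩,
  ⟨nat_lit 210, nat_lit 0, [([nat_lit 226], nat_lit 0), ([nat_lit 162, nat_lit 226, nat_lit 274, nat_lit 210, nat_lit 178, nat_lit 210], nat_lit 0), ([nat_lit 66, nat_lit 226, nat_lit 178, nat_lit 66, nat_lit 162], nat_lit 0), ([nat_lit 178, nat_lit 210, nat_lit 210, nat_lit 162, nat_lit 226, nat_lit 274], nat_lit 0), ([nat_lit 210, nat_lit 162, nat_lit 226, nat_lit 274, nat_lit 210, nat_lit 178], nat_lit 0)]⟩,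
  ⟨nat_lit 226, nat_lit 0, [([nat_lit 210], nat_lit 0), ([nat_lit 306, nat_lit 274, nat_lit 322, nat_lit 210, nat_lit 178, nat_lit 226, nat_lit 290], nat_lit 0), ([nat_lit 178, nat_lit 226, nat_lit 178], nat_lit 0), ([nat_lit 290, nat_lit 226, nat_lit 306, nat_lit 274, nat_lit 322, nat_lit 210, nat_lit 178], nat_lit 0), ([nat_lit 242, nat_lit 114, nat_lit 210, nat_lit 178, nat_lit 114, nat_lit 162], nat_lit 0)]⟩,
  ⟨nat_lit 242, nat_lit 1, [([nat_lit 258], nat_lit 0), ([nat_lit 242, nat_lit 242], nat_lit 0), ([nat_lit 114, nat_lit 258, nat_lit 66], nat_lit 0), ([nat_lit 114, nat_lit 210, nat_lit 178, nat_lit 114, nat_lit 162, nat_lit 226], nat_lit 0), ([nat_lit 306, nat_lit 242, nat_lit 306, nat_lit 242, nat_lit 306], nat_lit 0), ([nat_lit 338, nat_lit 242, nat_lit 338, nat_lit 242, nat_lit 338], nat_lit 0), ([nat_lit 290, nat_lit 338, nat_lit 258, nat_lit 354, nat_lit 274], nat_lit 0), ([nat_lit 354, nat_lit 258, nat_lit 290, nat_lit 338, nat_lit 274], nat_lit 0)]⟩,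
  ⟨nat_lit 258, nat_lit 1, [([nat_lit 242], nat_lit 0), ([nat_lit 66, nat_lit 242, nat_lit 114], nat_lit 0), ([nat_lit 354, nat_lit 274, nat_lit 242, nat_lit 290, nat_lit 338], nat_lit 0), ([nat_lit 290, nat_lit 306, nat_lit 338, nat_lit 322], nat_lit 0), ([nat_lit 290, nat_lit 338, nat_lit 274, nat_lit 242, nat_lit 354], nat_lit 0), ([nat_lit 306, nat_lit 258, nat_lit 306, nat_lit 258, nat_lit 306], nat_lit 0), ([nat_lit 162, nat_lit 242, nat_lit 306, nat_lit 66, nat_lit 162, nat_lit 66], nat_lit 0)]⟩,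
  ⟨nat_lit 274, nat_lit 1, [([nat_lit 162, nat_lit 274, nat_lit 162], nat_lit 0), ([nat_lit 290], nat_lit 0), ([nat_lit 242, nat_lit 354, nat_lit 258, nat_lit 290, nat_lit 338], nat_lit 0), ([nat_lit 210, nat_lit 178, nat_lit 210, nat_lit 210, nat_lit 162, nat_lit 226], nat_lit 0), ([nat_lit 66, nat_lit 290, nat_lit 178, nat_lit 66, nat_lit 162], nat_lit 0), ([nat_lit 306, nat_lit 274, nat_lit 306, nat_lit 274, nat_lit 306], nat_lit 0), ([nat_lit 322, nat_lit 210, nat_lit 178, nat_lit 226, nat_lit 290, nat_lit 226, nat_lit 306], nat_lit 0)]⟩,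
  ⟨nat_lit 290, nat_lit 1, [([nat_lit 274], nat_lit 0), ([nat_lit 306, nat_lit 338, nat_lit 322, nat_lit 258], nat_lit 0), ([nat_lit 226, nat_lit 306, nat_lit 274, nat_lit 322, nat_lit 210, nat_lit 178, nat_lit 226], nat_lit 0), ([nat_lit 338, nat_lit 258, nat_lit 354, nat_lit 274, nat_lit 242], nat_lit 0), ([nat_lit 178, nat_lit 66, nat_lit 162, nat_lit 274, nat_lit 66], nat_lit 0)]⟩,
  ⟨nat_lit 306, nat_lit 1, [([nat_lit 162, nat_lit 162], nat_lit 0), ([nat_lit 322], nat_lit 0), ([nat_lit 306, nat_lit 306], nat_lit 0), ([nat_lit 274, nat_lit 242, nat_lit 338, nat_lit 322, nat_lit 338], nat_lit 0), ([nat_lit 338, nat_lit 322, nat_lit 258, nat_lit 290], nat_lit 0), ([nat_lit 66, nat_lit 162, nat_lit 66, nat_lit 258, nat_lit 162, nat_lit 242], nat_lit 0)]⟩,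
  ⟨nat_lit 322, nat_lit 1, [([nat_lit 306], nat_lit 0), ([nat_lit 258, nat_lit 290, nat_lit 306, nat_lit 338], nat_lit 0), ([nat_lit 210, nat_lit 178, nat_lit 226, nat_lit 290, nat_lit 226, nat_lit 306, nat_lit 274], nat_lit 0), ([nat_lit 338, nat_lit 306, nat_lit 274, nat_lit 242, nat_lit 338], nat_lit 0)]⟩,
  ⟨nat_lit 338, nat_lit 1, [([nat_lit 322, nat_lit 258, nat_lit 290, nat_lit 306], nat_lit 0), ([nat_lit 338, nat_lit 338], nat_lit 0), ([nat_lit 162, nat_lit 338, nat_lit 162], nat_lit 0), ([nat_lit 354], nat_lit 0), ([nat_lit 322, nat_lit 338, nat_lit 306, nat_lit 274, nat_lit 242], nat_lit 0), ([nat_lit 258, nat_lit 354, nat_lit 274, nat_lit 242, nat_lit 290], nat_lit 0)]⟩,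
  ⟨nat_lit 354, nat_lit 1, [([nat_lit 338], nat_lit 0), ([nat_lit 242, nat_lit 354, nat_lit 242, nat_lit 354, nat_lit 242], nat_lit 0), ([nat_lit 258, nat_lit 290, nat_lit 338, nat_lit 274, nat_lit 242], nat_lit 0)]⟩]

noncomputable def erots : List (List ℕ × ℕ) := []

noncomputable def gens : List ℕ := [nat_lit 66, nat_lit 114, nat_lit 162, nat_lit 178, nat_lit 210, nat_lit 226, nat_lit 242, nat_lit 258, nat_lit 274, nat_lit 290, nat_lit 306, nat_lit 322, nat_lit 338, nat_lit 354]

noncomputable def chk : ℕ → Bool := chkRow0 row (nat_lit 36) (nat_lit 0x3f) (nat_lit 0xfc0) (nat_lit 12) (nat_lit 0xf) (nat_lit 0) (nat_lit 0x3f) (nat_lit 6) (nat_lit 0x1ff) (nat_lit 0x38000) [] cols gens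

theorem b0 : allR chk 6 0 = true := by decide +kernel

noncomputable def T : CT := ⟨row, nat_lit 36, nat_lit 36, nat_lit 0x3f, nat_lit 0xfc0, nat_lit 12, nat_lit 0xf, nat_lit 0, nat_lit 0x3f, nat_lit 6, nat_lit 0x1ff, nat_lit 0x38000, nat_lit 370, nat_lit 370, nat_lit 0, nat_lit 8, [], cols, erots, gens⟩

theorem all : ∀ c < 36, chk c = true := fun c hc =>
  allR_glue (d := 6) (n := 1) (forall_lt_succ' forall_lt_zero' b0) c (lt_of_lt_of_le hc (by norm_num))

/-- the relators used -/
def R : List (List ℕ) := [[nat_lit 3, nat_lit 6],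
  [nat_lit 9, nat_lit 10],
  [nat_lit 12, nat_lit 13],
  [nat_lit 14, nat_lit 15],
  [nat_lit 16, nat_lit 17],
  [nat_lit 18, nat_lit 19],
  [nat_lit 20, nat_lit 21],
  [nat_lit 6, nat_lit 12, nat_lit 10, nat_lit 6, nat_lit 9, nat_lit 13, nat_lit 14],
  [nat_lit 12, nat_lit 10, nat_lit 12, nat_lit 12, nat_lit 9, nat_lit 13, nat_lit 16],
  [nat_lit 9, nat_lit 9, nat_lit 18],
  [nat_lit 19, nat_lit 15, nat_lit 17, nat_lit 18, nat_lit 20],
  [nat_lit 20, nat_lit 20, nat_lit 20],
  [nat_lit 14, nat_lit 14, nat_lit 14],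
  [nat_lit 14, nat_lit 20, nat_lit 14, nat_lit 20, nat_lit 14, nat_lit 20],
  [nat_lit 14, nat_lit 21, nat_lit 14, nat_lit 21, nat_lit 14, nat_lit 21],
  [nat_lit 18, nat_lit 18, nat_lit 18],
  [nat_lit 16, nat_lit 14, nat_lit 17, nat_lit 20, nat_lit 15, nat_lit 21],
  [nat_lit 17, nat_lit 20, nat_lit 16, nat_lit 14, nat_lit 21, nat_lit 15],
  [nat_lit 19, nat_lit 20, nat_lit 18, nat_lit 16, nat_lit 14, nat_lit 20],
  [nat_lit 18, nat_lit 14, nat_lit 18, nat_lit 14, nat_lit 18, nat_lit 14],
  [nat_lit 18, nat_lit 15, nat_lit 18, nat_lit 15, nat_lit 18, nat_lit 15],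
  [nat_lit 16, nat_lit 18, nat_lit 16, nat_lit 18, nat_lit 16, nat_lit 18],
  [nat_lit 9, nat_lit 16, nat_lit 9, nat_lit 16],
  [nat_lit 9, nat_lit 20, nat_lit 9, nat_lit 20],
  [nat_lit 3, nat_lit 3, nat_lit 3],
  [nat_lit 3, nat_lit 14, nat_lit 6, nat_lit 15],
  [nat_lit 13, nat_lit 10, nat_lit 13, nat_lit 10],
  [nat_lit 3, nat_lit 9, nat_lit 12, nat_lit 3, nat_lit 13, nat_lit 10],
  [nat_lit 3, nat_lit 9, nat_lit 16, nat_lit 3, nat_lit 17, nat_lit 10],
  [nat_lit 3, nat_lit 9, nat_lit 3, nat_lit 15, nat_lit 9, nat_lit 14, nat_lit 18],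
  [nat_lit 12, nat_lit 10, nat_lit 13, nat_lit 17, nat_lit 13, nat_lit 18, nat_lit 16, nat_lit 19]]

theorem cert : Cert T (R.map fun r => (r, 0)) ([9, 10, 14, 15, 16, 17, 18, 19, 20, 21].map fun y => (y, 0)) 18 16 [3, 6, 9, 10, 12, 13, 14, 15, 16, 17, 18, 19, 20, 21] :=
  ⟨by decide +kernel, ⟨[[(24, 0), (27, 3), (0, 0), (28, 3), (27, 0), (29, 0), (28, 0), (25, 0)], [(0, 1), (25, 2), (7, 0), (7, 3)], [(1, 0), (9, 0), (9, 1), (8, 4), (22, 0), (29, 1), (27, 1)], [(1, 1), (26, 1), (7, 2)], [(2, 0), (8, 3), (27, 2), (8, 0), (8, 2)], [(2, 1), (30, 4), (26, 0), (30, 2), (7, 5)], [(3, 0), (12, 0), (25, 1), (7, 6), (19, 1), (13, 0), (16, 1), (17, 3)], [(3, 1), (25, 3), (16, 4), (10, 1), (17, 5), (20, 1), (29, 3)], [(22, 1), (4, 0), (17, 2), (8, 6), (28, 2), (21, 0), (30, 6)], [(4, 1), (10, 2), (30, 3), (16, 2), (28, 4)], [(9, 2), (5, 0), (15, 0), (18, 2), (10, 3), (29, 6)], [(5, 1), (10, 0), (30, 7), (18, 0)], [(10, 4), (11, 0), (23, 1), (6, 0), (18, 5), (16, 3)], [(6, 1), (14, 1), (17, 4)]],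 [], by decide +kernel⟩, by decide +kernel, Or.inl ⟨rfl, all⟩⟩

theorem bound {Γ : Type*} [Group Γ] {x : ℕ → Γ} (hR : ∀ r ∈ R, ev x r = 1) {n : ℕ}
    (h : CardLe x [9, 10, 14, 15, 16, 17, 18, 19, 20, 21] n) : CardLe x [3, 6, 9, 10, 12, 13, 14, 15, 16, 17, 18, 19, 20, 21] (36 * n) :=
  cert.cardLe rfl hR h

end Cfsg.Agent.H3.O7.Tc3
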