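import Cfsg.Agent.L0.CosetChain

/-! Generated coset table certificate. -/

set_option autoImplicit false
set_option maxRecDepth 100000

open Cfsg.Agent.L0

namespace Cfsg.Agent.H3.O7.Tc5

noncomputable def t0 : BT := .node (.node (.leaf (nat_lit 0x2318844208cc492d294f02230e91000000000000000000000000000000000000000000000000050d11212a6290cc41112a44798026009000000000000000000000000000000000000000000000000028d848a442a0822311c01152ac0106bb400000000000000000000000000000000000000000000000014342473a892432104247710de007801c0000000000000000000000000000000000000000000000000636021a08862084c45003400c002c00a000000000000000000000000000000000000000000000000030d010c702180120041244410a106451800000000000000000000000000000000000000000000000017f8108232880070018821340c86251080000000000000000000000000000000000000000000000000bc40200880200280080018004200880200000000000000000000000000000000000000000000000000000)) (.leaf (nat_lit 0x24e091823d082c27e8d3724610f8000000000000000000000000000000000000000000000000071b5926e48b911c41592b090d116e84b8000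00000000000000000000000000000000000000000000038da8a5628d888f20a8d3b42648b642580000000000000000000000000000000000000000000000001c6d24e7b2667089cb6634b2e843a10520000000000000000000000000000000000000000000000000dc6824b91b22330cd826550c920a4c5500000000000000000000000000000000000000000000000006d5412aa6b7a65a58c998e4d910e44138000000000000000000000000000000000000000000000000371989d436388b032e9193449c827314c0000000000000000000000000000000000000000000000001b54c576ba1400d946a555904c55414d80000000000000000000000000000000000000000000000000dfe5))) (.node (.leaf (nat_lit 0x292ce0c006909224209ca3cb482600000000000000000000000000000000000000000000000006e329aa6cda90d463b188acf710dc412800000000000000000000000000000000000000000000000027190d72745086b31dca0f4314825313c0000000000000000000000000000000000000000000000001354856525a200c96a6986104858316a000000000000000000000000000000000000000000000000009fe357c152b00610b42090b2d5945c6800000000000000000000000000000000000000000000000004f119298918002e827118c74890d441200000000000000000000000000000000000000000000000002718c9312ab4016513cdb05ca0824312c00000000000000000000000000000000000000000000000013546432a1ce434104647a112a00a80280000000000000000000000000000000000000000000000000a362))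 (.leaf (nat_lit 0x153713d94ea41896b24ab157694d800000000000000000000000000000000000000000000000048dc099a25e88d220c0a3737608fa4368000000000000000000000000000000000000000000000000246de95c9db2779905a45b1e7654cacf20000000000000000000000000000000000000000000000000e36c)))

noncomputable def tree : BT := t0

noncomputable def row : ℕ → ℕ := rowOf tree (nat_lit 3) (nat_lit 7) (nat_lit 325) (nat_lit 0x1fffffffffffffffffffffffffffffffffffffffffffffffffffffffffffffffffffffffffffffffff)

noncomputable def cols : List Col := [⟨nat_lit 213, nat_lit 1, [([nat_lit 227], nat_lit 0), ([nat_lit 213, nat_lit 213], nat_lit 0), ([nat_lit 269, nat_lit 213, nat_lit 269, nat_lit 213, nat_lit 269], nat_lit 0), ([nat_lit 255, nat_lit 297, nat_lit 227, nat_lit 311, nat_lit 241], nat_lit 0), ([nat_lit 311, nat_lit 213, nat_lit 311, nat_lit 213, nat_lit 311], nat_lit 0), ([nat_lit 297, nat_lit 283, nat_lit 297, nat_lit 269, nat_lit 241], nat_lit 0)]⟩,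
  ⟨nat_lit 227, nat_lit 1, [([nat_lit 213], nat_lit 0), ([nat_lit 255, nat_lit 269, nat_lit 297, nat_lit 283], nat_lit 0), ([nat_lit 311, nat_lit 241, nat_lit 213, nat_lit 255, nat_lit 297], nat_lit 0), ([nat_lit 269, nat_lit 227, nat_lit 269, nat_lit 227, nat_lit 269], nat_lit 0)]⟩,
  ⟨nat_lit 241, nat_lit 0, [([nat_lit 255], nat_lit 0), ([nat_lit 213, nat_lit 297, nat_lit 283, nat_lit 297, nat_lit 269], nat_lit 0), ([nat_lit 269, nat_lit 241, nat_lit 269, nat_lit 241, nat_lit 269], nat_lit 0), ([nat_lit 213, nat_lit 311, nat_lit 227, nat_lit 255, nat_lit 297], nat_lit 0), ([nat_lit 213, nat_lit 255, nat_lit 297, nat_lit 227, nat_lit 311], nat_lit 0)]⟩,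
  ⟨nat_lit 255, nat_lit 0, [([nat_lit 241], nat_lit 0), ([nat_lit 269, nat_lit 297, nat_lit 283, nat_lit 227], nat_lit 0), ([nat_lit 297, nat_lit 227, nat_lit 311, nat_lit 241, nat_lit 213], nat_lit 0)]⟩,
  ⟨nat_lit 269, nat_lit 0, [([nat_lit 283], nat_lit 0), ([nat_lit 269, nat_lit 269], nat_lit 0), ([nat_lit 227, nat_lit 269, nat_lit 227, nat_lit 269, nat_lit 227], nat_lit 0), ([nat_lit 213, nat_lit 269, nat_lit 213, nat_lit 269, nat_lit 213], nat_lit 0)]⟩,
  ⟨nat_lit 283, nat_lit 0, [([nat_lit 269], nat_lit 0), ([nat_lit 297, nat_lit 269, nat_lit 241, nat_lit 213, nat_lit 297], nat_lit 0), ([nat_lit 227, nat_lit 255, nat_lit 269, nat_lit 297], nat_lit 0)]⟩,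
  ⟨nat_lit 297, nat_lit 1, [([nat_lit 283, nat_lit 227, nat_lit 255, nat_lit 269], nat_lit 0), ([nat_lit 311], nat_lit 0), ([nat_lit 297, nat_lit 297], nat_lit 0), ([nat_lit 269, nat_lit 241, nat_lit 213, nat_lit 297, nat_lit 283], nat_lit 0), ([nat_lit 213, nat_lit 297, nat_lit 213, nat_lit 297, nat_lit 213], nat_lit 0), ([nat_lit 227, nat_lit 311, nat_lit 241, nat_lit 213, nat_lit 255], nat_lit 0), ([nat_lit 241, nat_lit 213, nat_lit 311, nat_lit 227, nat_lit 255], nat_lit 0)]⟩,
  ⟨nat_lit 311, nat_lit 1, [([nat_lit 297], nat_lit 0), ([nat_lit 213, nat_lit 311, nat_lit 213, nat_lit 311, nat_lit 213], nat_lit 0), ([nat_lit 227, nat_lit 255, nat_lit 297, nat_lit 241, nat_lit 213], nat_lit 0), ([nat_lit 241, nat_lit 213, nat_lit 255, nat_lit 297, nat_lit 227], nat_lit 0)]⟩]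

noncomputable def erots : List (List ℕ × ℕ) := []

noncomputable def gens : List ℕ := [nat_lit 213, nat_lit 227, nat_lit 241, nat_lit 255, nat_lit 269, nat_lit 283, nat_lit 297, nat_lit 311]

noncomputable def chk : ℕ → Bool := chkRow0 row (nat_lit 27) (nat_lit 0x1f) (nat_lit 0x3e0) (nat_lit 10) (nat_lit 0xf) (nat_lit 0) (nat_lit 0x1f) (nat_lit 5) (nat_lit 0x1ff) (nat_lit 0x1c000) [] cols gens

theorem b0 : allR chk 5 0 = true := by decide +kernel

noncomputable def T : CT := ⟨row, nat_lit 27, nat_lit 27, nat_lit 0x1f, nat_lit 0x3e0, nat_lit 10, nat_lit 0xf, nat_lit 0, nat_lit 0x1f, nat_lit 5, nat_lit 0x1ff, nat_lit 0x1c000, nat_lit 325, nat_lit 325, nat_lit 0, nat_lit 6, [], cols, erots, gens⟩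

theorem all : ∀ c < 27, chk c = true := fun c hc =>
  allR_glue (d := 5) (n := 1) (forall_lt_succ' forall_lt_zero' b0) c (lt_of_lt_of_le hc (by norm_num))

/-- the relators used -/
def R : List (List ℕ) := [[nat_lit 14, nat_lit 15],
  [nat_lit 16, nat_lit 17],
  [nat_lit 18, nat_lit 19],
  [nat_lit 20, nat_lit 21],
  [nat_lit 19, nat_lit 15, nat_lit 17, nat_lit 18, nat_lit 20],
  [nat_lit 20, nat_lit 20, nat_lit 20],
  [nat_lit 14, nat_lit 14, nat_lit 14],
  [nat_lit 14, nat_lit 20, nat_lit 14, nat_lit 20, nat_lit 14, nat_lit 20],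
  [nat_lit 14, nat_lit 21, nat_lit 14, nat_lit 21, nat_lit 14, nat_lit 21],
  [nat_lit 18, nat_lit 18, nat_lit 18],
  [nat_lit 16, nat_lit 14, nat_lit 17, nat_lit 20, nat_lit 15, nat_lit 21],
  [nat_lit 17, nat_lit 20, nat_lit 16, nat_lit 14, nat_lit 21, nat_lit 15],
  [nat_lit 19, nat_lit 20, nat_lit 18, nat_lit 16, nat_lit 14, nat_lit 20],
  [nat_lit 18, nat_lit 14, nat_lit 18, nat_lit 14, nat_lit 18, nat_lit 14],
  [nat_lit 18, nat_lit 15, nat_lit 18, nat_lit 15, nat_lit 18, nat_lit 15],
  [nat_lit 16, nat_lit 18, nat_lit 16, nat_lit 18, nat_lit 16, nat_lit 18]]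

theorem cert : Cert T (R.map fun r => (r, 0)) ([14, 15, 20, 21].map fun y => (y, 0)) 17 14 [14, 15, 16, 17, 18, 19, 20, 21] :=
  ⟨by decide +kernel, ⟨[[(0, 0), (6, 0), (13, 1), (10, 1), (8, 0), (12, 4)], [(0, 1), (4, 1), (10, 4), (14, 1)], [(1, 0), (12, 3), (15, 0), (11, 2), (10, 0)], [(1, 1), (4, 2), (10, 2)], [(2, 0), (9, 0), (14, 0), (13, 0)], [(2, 1), (12, 0), (4, 0)], [(4, 4), (3, 0), (5, 0), (12, 1), (7, 1), (10, 3), (11, 1)], [(3, 1), (8, 1), (11, 4), (10, 5)]], [], by decide +kernel⟩, by decide +kernel, Or.inl ⟨rfl, all⟩⟩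

theorem bound {Γ : Type*} [Group Γ] {x : ℕ → Γ} (hR : ∀ r ∈ R, ev x r = 1) {n : ℕ}
    (h : CardLe x [14, 15, 20, 21] n) : CardLe x [14, 15, 16, 17, 18, 19, 20, 21] (27 * n) :=
  cert.cardLe rfl hR h

end Cfsg.Agent.H3.O7.Tc5
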