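import Cfsg.Agent.L0.CosetChain

/-! Generated coset table certificate. -/

set_option autoImplicit false
set_option maxRecDepth 100000

open Cfsg.Agent.L0

namespace Cfsg.Agent.H3.O7.Tc6

noncomputable def t0 : BT := .node (.leaf (nat_lit 0x56248000000000051d1400000000000000000000000000000000000d4a69b22600000000009a3700000000000000000000000000000000000138491369c0000000001356e4000000000000000000000000000000000026b926889000000000001353000000000000000000000000000000000004e11449a5000000000002227000000000000000000000000000000000009ae20380c00000000009922200000000000000000000000000000000000a9400501000000000011168c000000000000000000000000000000000014d810240800000000000601000000000000000000000000000000000000000)) (.leaf (nat_lit 0x2b324800000000028c8a800000000000000000000000000000000006a54))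

noncomputable def tree : BT := t0

noncomputable def row : ℕ → ℕ := rowOf tree (nat_lit 3) (nat_lit 7) (nat_lit 235) (nat_lit 0x7ffffffffffffffffffffffffffffffffffffffffffffffffffffffffff)

noncomputable def cols : List Col := [⟨nat_lit 155, nat_lit 0, [([nat_lit 165], nat_lit 0), ([nat_lit 155, nat_lit 155], nat_lit 0), ([nat_lit 215, nat_lit 155, nat_lit 215, nat_lit 155, nat_lit 215], nat_lit 0), ([nat_lit 225, nat_lit 155, nat_lit 225, nat_lit 155, nat_lit 225], nat_lit 0)]⟩,
  ⟨nat_lit 165, nat_lit 0, [([nat_lit 155], nat_lit 0)]⟩,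
  ⟨nat_lit 215, nat_lit 1, [([nat_lit 225], nat_lit 0), ([nat_lit 215, nat_lit 215], nat_lit 0), ([nat_lit 155, nat_lit 215, nat_lit 155, nat_lit 215, nat_lit 155], nat_lit 0)]⟩,
  ⟨nat_lit 225, nat_lit 1, [([nat_lit 215], nat_lit 0)]⟩]

noncomputable def erots : List (List ℕ × ℕ) := []

noncomputable def gens : List ℕ := [nat_lit 155, nat_lit 165, nat_lit 215, nat_lit 225]

noncomputable def chk : ℕ → Bool := chkRow0 row (nat_lit 9) (nat_lit 0xf) (nat_lit 0x70) (nat_lit 7) (nat_lit 0x7) (nat_lit 0) (nat_lit 0xf) (nat_lit 4) (nat_lit 0x1ff) (nat_lit 0x6000) [] cols gens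

theorem b0 : allR chk 4 0 = true := by decide +kernel

noncomputable def T : CT := ⟨row, nat_lit 9, nat_lit 9, nat_lit 0xf, nat_lit 0x70, nat_lit 7, nat_lit 0x7, nat_lit 0, nat_lit 0xf, nat_lit 4, nat_lit 0x1ff, nat_lit 0x6000, nat_lit 235, nat_lit 235, nat_lit 0, nat_lit 6, [], cols, erots, gens⟩

theorem all : ∀ c < 9, chk c = true := fun c hc =>
  allR_glue (d := 4) (n := 1) (forall_lt_succ' forall_lt_zero' b0) c (lt_of_lt_of_le hc (by norm_num))

/-- the relators used -/
def R : List (List ℕ) := [[nat_lit 14, nat_lit 15],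
  [nat_lit 20, nat_lit 21],
  [nat_lit 20, nat_lit 20, nat_lit 20],
  [nat_lit 14, nat_lit 14, nat_lit 14],
  [nat_lit 14, nat_lit 20, nat_lit 14, nat_lit 20, nat_lit 14, nat_lit 20],
  [nat_lit 14, nat_lit 21, nat_lit 14, nat_lit 21, nat_lit 14, nat_lit 21]]

theorem cert : Cert T (R.map fun r => (r, 0)) ([20, 21].map fun y => (y, 0)) 15 10 [14, 15, 20, 21] :=
  ⟨by decide +kernel, ⟨[[(0, 0), (3, 0), (4, 0), (5, 0)], [(0, 1)], [(1, 0), (2, 0), (4, 1)], [(1, 1)]], [], by decide +kernel⟩, by decide +kernel, Or.inl ⟨rfl, all⟩⟩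

theorem bound {Γ : Type*} [Group Γ] {x : ℕ → Γ} (hR : ∀ r ∈ R, ev x r = 1) {n : ℕ}
    (h : CardLe x [20, 21] n) : CardLe x [14, 15, 20, 21] (9 * n) :=
  cert.cardLe rfl hR h

end Cfsg.Agent.H3.O7.Tc6
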